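import Mathlib.AlgebraicGeometry.Morphisms.QuasiFinite
import Mathlib.AlgebraicGeometry.Morphisms.Finite

/-! # The stalk of the direct image of a finite morphism is semilocal on the fibre -/

set_option autoImplicit false
set_option maxHeartbeats 400000
set_option backward.isDefEq.respectTransparency.types false

universe u

open CategoryTheory AlgebraicGeometry TopologicalSpace Opposite

namespace GrothLib.FinStalk20

variable {Z X : Scheme.{u}} (g : Z ⟶ X) {x : X}

/-- The map to the local ring at a point of the fibre. -/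
noncomputable abbrev toLocal (z : {z : Z // g.base z = x}) :
    (g.base _* Z.presheaf).stalk x ⟶ Z.presheaf.stalk z.1 :=
  ((g.base _* Z.presheaf).stalkCongr (Inseparable.of_eq z.2)).inv ≫
    TopCat.Presheaf.stalkPushforward CommRingCat g.base Z.presheaf z.1

/-- The ideal of a point of the fibre. -/
noncomputable abbrev pointIdeal (z : {z : Z // g.base z = x}) : Ideal ((g.base _* Z.presheaf).stalk x) :=
  Ideal.comap (toLocal g z).hom (IsLocalRing.maximalIdeal (Z.presheaf.stalk z.1))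

theorem toLocal_germ (z : {z : Z // g.base z = x}) (W : X.Opens) (hx : x ∈ W)
    (s : Γ(Z, g ⁻¹ᵁ W)) :
    toLocal g z ((g.base _* Z.presheaf).germ W x hx s) =
      Z.presheaf.germ (g ⁻¹ᵁ W) z.1 (show g.base z.1 ∈ W by rw [z.2]; exact hx) s := by
  obtain ⟨z, rfl⟩ := z
  have h : ((g.base _* Z.presheaf).stalkCongr (Inseparable.of_eq (rfl : g.base z = g.base z))).inv = 𝟙 _ := by
    simp [TopCat.Presheaf.stalkCongr]
  simp only [toLocal, h, Category.id_comp]
  exact TopCat.Presheaf.stalkPushforward_germ_apply CommRingCat g.base Z.presheaf W z hx s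

theorem mem_pointIdeal (z : {z : Z // g.base z = x}) (W : X.Opens) (hx : x ∈ W) (s : Γ(Z, g ⁻¹ᵁ W)) :
    (g.base _* Z.presheaf).germ W x hx s ∈ pointIdeal g z ↔ z.1 ∉ Z.basicOpen s := by
  rw [Ideal.mem_comap, IsLocalRing.mem_maximalIdeal, mem_nonunits_iff,
    Z.mem_basicOpen s z.1 (show g.base z.1 ∈ W by rw [z.2]; exact hx)]
  refine not_congr ?_
  erw [toLocal_germ g z W hx s]

theorem isUnit_of_forall_not_mem [IsFinite g] (c : (g.base _* Z.presheaf).stalk x)
    (h : ∀ z, c ∉ pointIdeal g z) : IsUnit c := by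
  obtain ⟨W, hx, s, rfl⟩ := (g.base _* Z.presheaf).exists_germ_eq c
  have hD : ∀ z : Z, g.base z = x → z ∈ Z.basicOpen (s : Γ(Z, g ⁻¹ᵁ W)) := fun z hz => by
    have h' := h ⟨z, hz⟩
    rw [mem_pointIdeal g ⟨z, hz⟩ W hx s, not_not] at h'
    exact h'
  let D := Z.basicOpen (s : Γ(Z, g ⁻¹ᵁ W))
  have hcl : IsClosed (g.base '' (D : Set Z)ᶜ) := g.isClosedMap _ D.isOpen.isClosed_compl
  let W' : X.Opens := W ⊓ ⟨(g.base '' (D : Set Z)ᶜ)ᶜ, hcl.isOpen_compl⟩
  have hxW' : x ∈ W' := ⟨hx, fun ⟨z, hz, hzx⟩ => hz (hD z hzx)⟩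
  have hle : g ⁻¹ᵁ W' ≤ D := fun z hz => by
    by_contra hn
    exact hz.2 ⟨z, hn, rfl⟩
  have hu : IsUnit (Z.presheaf.map (homOfLE (g.preimage_mono inf_le_left : g ⁻¹ᵁ W' ≤ g ⁻¹ᵁ W)).op
      (s : Γ(Z, g ⁻¹ᵁ W))) := by
    have hD' : IsUnit (Z.presheaf.map (homOfLE (Z.basicOpen_le _)).op (s : Γ(Z, g ⁻¹ᵁ W))) :=
      Z.toRingedSpace.isUnit_res_basicOpen _
    have h2 := hD'.map (Z.presheaf.map (homOfLE hle).op).hom
    rwa [← ConcreteCategory.comp_apply, ← Functor.map_comp] at h2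
  have := hu.map ((g.base _* Z.presheaf).germ W' x hxW').hom
  convert this using 1
  exact ((g.base _* Z.presheaf).germ_res_apply (homOfLE inf_le_left : W' ⟶ W) x hxW' s).symm

theorem not_pointIdeal_le [IsFinite g] {z z' : {z : Z // g.base z = x}} (hne : z ≠ z') :
    ¬ pointIdeal g z ≤ pointIdeal g z' := by
  intro hle
  obtain ⟨u, huo, hu⟩ := isDiscrete_iff_forall_mem_exists_isOpen.1 (g.isDiscrete_preimage_singleton x) z'.1 z'.2
  have hz'u : z'.1 ∈ u := ((Set.ext_iff.1 hu z'.1).2 rfl).1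
  obtain ⟨_, ⟨V, hV, rfl⟩, hxV, -⟩ := X.isBasis_affineOpens.exists_subset_of_mem_open (Set.mem_univ x) isOpen_univ
  have hA : IsAffineOpen (g ⁻¹ᵁ V) := hV.preimage g
  obtain ⟨f, hfu, hf⟩ := hA.exists_basicOpen_le (V := ⟨u, huo⟩) ⟨z'.1, hz'u⟩ (show g.base z'.1 ∈ V by rw [z'.2]; exact hxV)
  have h1 : (g.base _* Z.presheaf).germ V x hxV f ∈ pointIdeal g z := by
    rw [mem_pointIdeal]
    intro hzf
    have : z.1 = z'.1 := (Set.ext_iff.1 hu z.1).1 ⟨hfu hzf, z.2⟩
    exact hne (Subtype.ext this)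
  exact (mem_pointIdeal g z' V hxV f).1 (hle h1) hf

theorem bijOn_pointIdeal [IsFinite g] :
    Set.BijOn (pointIdeal g (x := x)) Set.univ {I | I.IsMaximal} := by
  classical
  have : Finite {z : Z // g.base z = x} := (g.finite_preimage_singleton x).to_subtype
  let _ := Fintype.ofFinite {z : Z // g.base z = x}
  have hcover : ∀ I : Ideal ((g.base _* Z.presheaf).stalk x), I ≠ ⊤ → ∃ z, I ≤ pointIdeal g z := by
    intro I hI
    have hsub : (I : Set _) ⊆ ⋃ z ∈ ((Finset.univ : Finset {z : Z // g.base z = x}) : Set {z : Z // g.base z = x}),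
        (pointIdeal g z : Set ((g.base _* Z.presheaf).stalk x)) := fun c hc => by
      by_contra hn
      exact hI (I.eq_top_of_isUnit_mem hc (isUnit_of_forall_not_mem g c fun z hz =>
        hn (Set.mem_iUnion₂.2 ⟨z, Finset.mem_univ z, hz⟩)))
    rcases isEmpty_or_nonempty {z : Z // g.base z = x} with he | ⟨⟨z₀⟩⟩
    · obtain ⟨z, -⟩ := Set.mem_iUnion₂.1 (hsub I.zero_mem)
      exact isEmptyElim z
    obtain ⟨z, -, hz⟩ := (Ideal.subset_union_prime z₀ z₀ (fun z _ _ _ =>
      Ideal.IsPrime.comap _)).1 hsub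
    exact ⟨z, hz⟩
  have hne : ∀ z, pointIdeal g (x := x) z ≠ ⊤ := fun z => (Ideal.IsPrime.comap _).ne_top
  refine ⟨fun z _ => ?_, fun z _ z' _ h => ?_, fun I hI => ?_⟩
  · obtain ⟨M, hM, hzM⟩ := Ideal.exists_le_maximal _ (hne z)
    obtain ⟨z', hz'⟩ := hcover M hM.ne_top
    have e : z = z' := by
      by_contra hn
      exact not_pointIdeal_le g hn (hzM.trans hz')
    subst e
    rwa [← le_antisymm hzM hz'] at hM
  · by_contra hn
    exact not_pointIdeal_le g hn h.le
  · obtain ⟨z, hz⟩ := hcover I hI.ne_top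
    exact ⟨z, trivial, (hI.eq_of_le (hne z) hz).symm⟩

end GrothLib.FinStalk20
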